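import Mathlib.RingTheory.RingHom.Etale
import Mathlib.RingTheory.Smooth.Flat
import Mathlib.RingTheory.PolynomialAlgebra
import Mathlib.RingTheory.Localization.BaseChange
import Mathlib.RingTheory.Localization.FractionRing
import Mathlib.RingTheory.Flat.TorsionFree
import Mathlib.Algebra.Polynomial.Roots
import Mathlib.Algebra.Field.Subfield.Basic

/-!
# The generic line through a rational point of an étale scheme over affine space

`exists_line_ring`.
-/

set_option autoImplicit false
universe u

open scoped TensorProduct nonZeroDivisors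

namespace K798.LineRing

theorem isDomain_tensor_frac {P Λ C : Type u} [CommRing P] [IsDomain P] [Field Λ] [Algebra P Λ]
    [IsFractionRing P Λ] [CommRing C] [IsDomain C] [Algebra P C]
    (h : Function.Injective (algebraMap P C)) : IsDomain (C ⊗[P] Λ) := by
  have : IsLocalization (Algebra.algebraMapSubmonoid C P⁰) (C ⊗[P] Λ) := inferInstance
  refine IsLocalization.isDomain_of_le_nonZeroDivisors (M := Algebra.algebraMapSubmonoid C P⁰)
    (R := C) (S := C ⊗[P] Λ) ?_
  rintro _ ⟨p, hp, rfl⟩
  refine mem_nonZeroDivisors_of_ne_zero ?_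
  rw [Ne, map_eq_zero_iff _ h]
  exact nonZeroDivisors.ne_zero hp

theorem isDomain_tensor {R P Λ B : Type u} [CommRing R] [CommRing P] [IsDomain P] [Algebra R P] [Field Λ]
    [Algebra P Λ] [IsFractionRing P Λ] [Algebra R Λ] [IsScalarTower R P Λ] [CommRing B] [Algebra R B]
    (hPB : IsDomain (P ⊗[R] B)) (h : Function.Injective (algebraMap P (P ⊗[R] B))) : IsDomain (Λ ⊗[R] B) := by
  have h5 : IsDomain ((P ⊗[R] B) ⊗[P] Λ) := isDomain_tensor_frac h
  exact ((Algebra.TensorProduct.cancelBaseChange R P P Λ B).symm.toRingEquiv.trans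
      (Algebra.TensorProduct.comm P Λ (P ⊗[R] B)).toRingEquiv).toMulEquiv.isDomain _

theorem injective_of_flat {R B : Type u} [CommRing R] [IsDomain R] [CommRing B] [Nontrivial B] [Algebra R B]
    [Module.Flat R B] : Function.Injective (algebraMap R B) := by
  rw [injective_iff_map_eq_zero]
  intro r hr
  by_contra hr0
  have h1 : Function.Injective (LinearMap.mulLeft R r) := fun x y hxy => mul_left_cancel₀ hr0 hxy
  have h2 := Module.Flat.rTensor_preserves_injective_linearMap (M := B) (LinearMap.mulLeft R r) h1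
  have h3 : (LinearMap.mulLeft R r).rTensor B ((1 : R) ⊗ₜ[R] (1 : B)) = (LinearMap.mulLeft R r).rTensor B 0 := by
    rw [LinearMap.rTensor_tmul, LinearMap.mulLeft_apply, mul_one, ← mul_one r, ← smul_eq_mul,
      TensorProduct.smul_tmul, Algebra.smul_def, hr, zero_mul, TensorProduct.tmul_zero, map_zero]
  have h4 := congrArg (TensorProduct.lid R B) (h2 h3)
  rw [TensorProduct.lid_tmul, one_smul, map_zero] at h4
  exact one_ne_zero h4

section

variable (K : Type u) [Field K] (n : ℕ)

/-- the coordinate ring of affine space -/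
local notation "R₀" => MvPolynomial (Fin n) K

/-- the coordinate ring of affine space with one more variable -/
local notation "P₀" => Polynomial (MvPolynomial (Fin n) K)

/-- its field of fractions -/
local notation "Λ₀" => FractionRing (Polynomial (MvPolynomial (Fin n) K))

variable {K n}

/-- homothety with centre `a` -/
noncomputable def scal (a : Fin n → K) (c : K) : P₀ →+* P₀ :=
  Polynomial.eval₂RingHom
    (MvPolynomial.eval₂Hom (Polynomial.C.comp MvPolynomial.C)
      (fun i => Polynomial.C (MvPolynomial.C (a i) + MvPolynomial.C c * (MvPolynomial.X i - MvPolynomial.C (a i)))))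
    (Polynomial.C (MvPolynomial.C c) * Polynomial.X)

lemma scal_X (a : Fin n → K) (c : K) : scal a c Polynomial.X = Polynomial.C (MvPolynomial.C c) * Polynomial.X := by
  simp [scal]

lemma scal_C_C (a : Fin n → K) (c r : K) : scal a c (Polynomial.C (MvPolynomial.C r)) =
    Polynomial.C (MvPolynomial.C r) := by
  simp [scal]

lemma scal_C_X (a : Fin n → K) (c : K) (i : Fin n) : scal a c (Polynomial.C (MvPolynomial.X i)) =
    Polynomial.C (MvPolynomial.C (a i) + MvPolynomial.C c * (MvPolynomial.X i - MvPolynomial.C (a i))) := by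
  simp [scal]

lemma scal_comp (a : Fin n → K) (c d : K) (h : c * d = 1) : (scal a c).comp (scal a d) = RingHom.id _ := by
  have h' : MvPolynomial.C c * MvPolynomial.C d = (1 : R₀) := by rw [← map_mul, h, map_one]
  refine Polynomial.ringHom_ext' (MvPolynomial.ringHom_ext' ?_ fun i => ?_) ?_
  · ext r
    simp only [RingHom.comp_apply, scal_C_C, RingHom.id_apply]
  · simp only [RingHom.comp_apply, scal_C_X, RingHom.id_apply]
    rw [map_add, map_mul, map_sub, map_add, map_mul, map_sub, scal_C_C, scal_C_C, scal_C_X,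
      ← Polynomial.C_sub, ← Polynomial.C_mul, ← Polynomial.C_add]
    congr 1
    linear_combination (MvPolynomial.X i - MvPolynomial.C (a i)) * h'
  · simp only [RingHom.comp_apply, scal_X, map_mul, scal_C_C, RingHom.id_apply]
    rw [← mul_assoc, ← Polynomial.C_mul, mul_comm, mul_comm (MvPolynomial.C d), h', Polynomial.C_1, mul_one]

lemma scal_injective (a : Fin n → K) (c : Kˣ) : Function.Injective (scal a (c : K)) := by
  have h := scal_comp a (↑c⁻¹ : K) (c : K) (by simp)
  exact Function.LeftInverse.injective (g := scal a (↑c⁻¹ : K)) fun x => congrArg (fun f => f x) h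

/-- homothety on the function field -/
noncomputable def hom (a : Fin n → K) (c : Kˣ) : Λ₀ →+* Λ₀ :=
  IsFractionRing.lift (A := P₀) (K := Λ₀) (L := Λ₀) (g := (algebraMap P₀ Λ₀).comp (scal a (c : K)))
    ((FaithfulSMul.algebraMap_injective P₀ Λ₀).comp (scal_injective a c))

lemma hom_algebraMap (a : Fin n → K) (c : Kˣ) (x : P₀) :
    hom a c (algebraMap P₀ Λ₀ x) = algebraMap P₀ Λ₀ (scal a (c : K) x) :=
  IsFractionRing.lift_algebraMap _ _

/-- the parameter of the line -/
noncomputable def par : Λ₀ := algebraMap P₀ Λ₀ Polynomial.X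

lemma par_ne_zero : (par : Λ₀) ≠ 0 := by
  rw [par, Ne, map_eq_zero_iff _ (FaithfulSMul.algebraMap_injective P₀ Λ₀)]
  exact Polynomial.X_ne_zero

/-- constants -/
noncomputable def cst : K →+* Λ₀ := (algebraMap P₀ Λ₀).comp (Polynomial.C.comp MvPolynomial.C)

lemma cst_apply (r : K) : (cst r : Λ₀) = algebraMap P₀ Λ₀ (Polynomial.C (MvPolynomial.C r)) := rfl

lemma hom_cst (a : Fin n → K) (c : Kˣ) (r : K) : hom a c (cst r) = cst r := by
  rw [cst_apply, hom_algebraMap, scal_C_C]

lemma hom_par (a : Fin n → K) (c : Kˣ) : hom a c (par : Λ₀) = cst (c : K) * par := by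
  rw [par, hom_algebraMap, scal_X, map_mul, cst_apply]

/-- the coordinates -/
noncomputable def cor (i : Fin n) : Λ₀ := algebraMap P₀ Λ₀ (Polynomial.C (MvPolynomial.X i))

lemma hom_cor (a : Fin n → K) (c : Kˣ) (i : Fin n) : hom a c (cor i) =
    cst (a i) + cst (c : K) * (cor i - cst (a i)) := by
  rw [cor, hom_algebraMap, scal_C_X]
  simp only [map_add, map_mul, map_sub, cst_apply]

/-- the fixed field -/
noncomputable def fix (a : Fin n → K) : Subfield Λ₀ :=
  ⨅ c : Kˣ, (hom a c).eqLocusField (RingHom.id _)

lemma mem_fix {a : Fin n → K} {z : Λ₀} : z ∈ fix a ↔ ∀ c : Kˣ, hom a c z = z := by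
  rw [fix, Subfield.mem_iInf]
  rfl

lemma cst_mem (a : Fin n → K) (r : K) : (cst r : Λ₀) ∈ fix a := mem_fix.2 fun c => hom_cst a c r

lemma cst_unit_ne_zero (c : Kˣ) : (cst (c : K) : Λ₀) ≠ 0 := by
  rw [Ne, map_eq_zero_iff _ (RingHom.injective _)]
  exact c.ne_zero

lemma slope_mem (a : Fin n → K) (i : Fin n) : (cor i - cst (a i)) / par ∈ fix a := mem_fix.2 fun c => by
  rw [map_div₀, map_sub, hom_cor, hom_cst, hom_par, add_sub_cancel_left,
    mul_div_mul_left _ _ (cst_unit_ne_zero c)]

/-- constants in the fixed field -/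
noncomputable def κ (a : Fin n → K) : K →+* fix a := RingHom.codRestrict cst (fix a) (cst_mem a)

lemma coe_κ (a : Fin n → K) (r : K) : ((κ a r : fix a) : Λ₀) = cst r := rfl

/-- slopes -/
noncomputable def slope (a : Fin n → K) (i : Fin n) : fix a := ⟨(cor i - cst (a i)) / par, slope_mem a i⟩

lemma coe_slope (a : Fin n → K) (i : Fin n) : ((slope a i : fix a) : Λ₀) = (cor i - cst (a i)) / par := rfl

/-- the parameter as a polynomial variable -/
noncomputable def θ (a : Fin n → K) : Polynomial (fix a) →+* Λ₀ :=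
  Polynomial.eval₂RingHom (fix a).subtype par

lemma θ_C (a : Fin n → K) (z : fix a) : θ a (Polynomial.C z) = z := by simp [θ]

lemma θ_X (a : Fin n → K) : θ a Polynomial.X = par := by simp [θ]

lemma θ_injective [Infinite K] (a : Fin n → K) : Function.Injective (θ a) := by
  rw [injective_iff_map_eq_zero]
  intro p hp
  have h1 : ∀ c : Kˣ, Polynomial.IsRoot (p.map (fix a).subtype) (cst (c : K) * par) := by
    intro c
    have h2 := congrArg (hom a c) hp
    rw [map_zero, θ, Polynomial.coe_eval₂RingHom, Polynomial.hom_eval₂, hom_par] at h2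
    have h3 : (hom a c).comp (fix a).subtype = (fix a).subtype := by
      ext z
      exact mem_fix.1 z.2 c
    rw [h3] at h2
    rw [Polynomial.IsRoot, Polynomial.eval_map, h2]
  have h4 : p.map (fix a).subtype = 0 := by
    have hK : Infinite Kˣ := by
      rw [← not_finite_iff_infinite]
      intro hfin
      exact not_finite_iff_infinite.2 (inferInstance : Infinite K)
        (Finite.of_surjective (fun x : Option Kˣ => x.elim (0 : K) (fun c => (c : K))) fun y => by
          by_cases hy : y = 0
          · exact ⟨none, hy.symm⟩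
          · exact ⟨some (Units.mk0 y hy), rfl⟩)
    refine Polynomial.eq_zero_of_infinite_isRoot _ ?_
    refine Set.infinite_of_injective_forall_mem (f := fun c : Kˣ => (cst (c : K) * par : Λ₀)) ?_ h1
    intro c d hcd
    have := mul_right_cancel₀ par_ne_zero hcd
    exact Units.ext (RingHom.injective _ this)
  exact (Polynomial.map_eq_zero_iff (fix a).subtype.injective).1 h4

/-- the line -/
noncomputable def line (a : Fin n → K) : R₀ →+* Polynomial (fix a) :=
  MvPolynomial.eval₂Hom (Polynomial.C.comp (κ a))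
    (fun i => Polynomial.C (κ a (a i)) + Polynomial.C (slope a i) * Polynomial.X)

lemma line_C (a : Fin n → K) (r : K) : line a (MvPolynomial.C r) = Polynomial.C (κ a r) := by simp [line]

lemma line_X (a : Fin n → K) (i : Fin n) : line a (MvPolynomial.X i) =
    Polynomial.C (κ a (a i)) + Polynomial.C (slope a i) * Polynomial.X := by simp [line]

lemma θ_line (a : Fin n → K) : (θ a).comp (line a) = (algebraMap P₀ Λ₀).comp Polynomial.C := by
  refine MvPolynomial.ringHom_ext' ?_ fun i => ?_
  · ext r
    simp only [RingHom.comp_apply, line_C, θ_C, coe_κ, cst_apply]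
  · simp only [RingHom.comp_apply, line_X, map_add, map_mul, θ_C, θ_X, coe_κ, coe_slope]
    rw [div_mul_cancel₀ _ par_ne_zero, add_sub_cancel]
    rfl

end

theorem exists_delta {R B A F : Type u} [CommRing R] [CommRing B] [Algebra R B] [CommRing A] [Algebra R A]
    [Field F] (ev : A →+* F) (f₂ : B →+* F)
    (hf : f₂.comp (algebraMap R B) = ev.comp (algebraMap R A)) :
    ∃ δ : A ⊗[R] B →+* F, ∀ a b, δ (a ⊗ₜ[R] b) = ev a * f₂ b := by
  let _ : Algebra R F := (ev.comp (algebraMap R A)).toAlgebra
  let g₁ : A →ₐ[R] F := { ev with commutes' := fun r => rfl }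
  let g₂ : B →ₐ[R] F := { f₂ with commutes' := fun r => congrArg (fun f => f r) hf }
  exact ⟨(Algebra.TensorProduct.productMap g₁ g₂).toRingHom, fun a b => rfl⟩

/-- **The generic line through a rational point.** -/
theorem exists_line_ring (K : Type u) [Field K] [Infinite K] (n : ℕ) (B : Type u) [CommRing B] [IsDomain B]
    [Algebra K B] (g : MvPolynomial (Fin n) K →ₐ[K] B) (hg : g.toRingHom.Etale) (ε : B →ₐ[K] K) :
    ∃ (F : Type u) (_ : Field F) (_ : Algebra K F) (D : Type u) (_ : CommRing D) (_ : IsDomain D) (_ : Algebra F D)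
      (q : Polynomial F →ₐ[F] D) (j : B →+* D) (δ : D →ₐ[F] F),
      q.toRingHom.Etale ∧ Function.Injective j ∧
      j.comp (algebraMap K B) = (algebraMap F D).comp (algebraMap K F) ∧
      δ.toRingHom.comp j = (algebraMap K F).comp ε.toRingHom := by
  classical
  let R₀ := MvPolynomial (Fin n) K
  let P₀ := Polynomial R₀
  let Λ := FractionRing P₀
  let a : Fin n → K := fun i => ε (g (MvPolynomial.X i))
  let F := fix a
  let _ : Algebra R₀ B := g.toRingHom.toAlgebra
  have hgR : ∀ r : R₀, algebraMap R₀ B r = g r := fun _ => rfl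
  have : Algebra.Etale R₀ B := hg
  let _ : Algebra R₀ (Polynomial F) := (line a).toAlgebra
  have hlR : ∀ r : R₀, algebraMap R₀ (Polynomial F) r = line a r := fun _ => rfl
  have hΛ : ∀ r : R₀, algebraMap R₀ Λ r = algebraMap P₀ Λ (Polynomial.C r) := fun r =>
    IsScalarTower.algebraMap_apply R₀ P₀ Λ r
  let Θ : Polynomial F →ₐ[R₀] Λ :=
    { θ a with commutes' := fun r => (congrArg (fun f => f r) (θ_line a)).trans (hΛ r).symm }
  have hΘ : Function.Injective Θ := θ_injective a
  have hinjB : Function.Injective (algebraMap R₀ B) := injective_of_flat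
  -- `Λ ⊗ B` is a domain
  have hPB : IsDomain (P₀ ⊗[R₀] B) :=
    ((Algebra.TensorProduct.comm R₀ P₀ B).toRingEquiv.trans
      (polyEquivTensor' R₀ B).symm.toRingEquiv).toMulEquiv.isDomain _
  have hPinj : Function.Injective (algebraMap P₀ (P₀ ⊗[R₀] B)) :=
    Algebra.TensorProduct.includeLeft_injective (R := R₀) (S := R₀) hinjB
  have h6 : IsDomain (Λ ⊗[R₀] B) := isDomain_tensor hPB hPinj
  let D := Polynomial F ⊗[R₀] B
  have h7 : Function.Injective (Algebra.TensorProduct.map Θ (AlgHom.id R₀ B)) :=
    Module.Flat.rTensor_preserves_injective_linearMap (M := B) Θ.toLinearMap hΘ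
  have hD : IsDomain D := h7.isDomain (Algebra.TensorProduct.map Θ (AlgHom.id R₀ B)).toRingHom
  have hinj : Function.Injective (algebraMap R₀ (Polynomial F)) := by
    have h8 : Function.Injective ((θ a).comp (line a)) := by
      rw [θ_line]
      exact (FaithfulSMul.algebraMap_injective P₀ Λ).comp (Polynomial.C_injective)
    exact Function.Injective.of_comp h8
  let _ : Algebra K F := (κ a).toAlgebra
  have hκ : ∀ r : K, algebraMap K F r = κ a r := fun _ => rfl
  let _ : Algebra F D := ((Algebra.TensorProduct.includeLeftRingHom (R := R₀) (A := Polynomial F) (B := B)).comp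
    Polynomial.C).toAlgebra
  have hFD : ∀ z : F, algebraMap F D z = (Polynomial.C z) ⊗ₜ[R₀] (1 : B) := fun _ => rfl
  let q : Polynomial F →ₐ[F] D :=
    { Algebra.TensorProduct.includeLeftRingHom (R := R₀) (A := Polynomial F) (B := B) with
      commutes' := fun z => rfl }
  let j : B →+* D := (Algebra.TensorProduct.includeRight (R := R₀) (A := Polynomial F) (B := B)).toRingHom
  -- the section
  have hf₂ : ((κ a).comp ε.toRingHom).comp (algebraMap R₀ B) =
      (Polynomial.evalRingHom (0 : F)).comp (algebraMap R₀ (Polynomial F)) := by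
    refine MvPolynomial.ringHom_ext' ?_ fun i => ?_
    · ext r
      have h9 : ε (g (MvPolynomial.C r)) = r := (ε.comp g).commutes r
      rw [RingHom.comp_apply, RingHom.comp_apply, RingHom.comp_apply, RingHom.comp_apply, RingHom.comp_apply,
        hgR, hlR, line_C, Polynomial.coe_evalRingHom, Polynomial.eval_C]
      exact congrArg (fun s => ((κ a s : F) : Λ)) h9
    · rw [RingHom.comp_apply, RingHom.comp_apply, RingHom.comp_apply,
        hgR, hlR, line_X, Polynomial.coe_evalRingHom, Polynomial.eval_add, Polynomial.eval_C,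
        Polynomial.eval_mul, Polynomial.eval_X, mul_zero, add_zero]
      rfl
  obtain ⟨δ₀, hδ₀⟩ := exists_delta (R := R₀) (Polynomial.evalRingHom (0 : F)) ((κ a).comp ε.toRingHom) hf₂
  let δ : D →ₐ[F] F :=
    { δ₀ with
      commutes' := fun z => by
        change δ₀ ((Polynomial.C z) ⊗ₜ[R₀] (1 : B)) = z
        rw [hδ₀, map_one, mul_one]
        exact Polynomial.eval_C }
  refine ⟨F, inferInstance, inferInstance, D, inferInstance, hD, inferInstance, q, j, δ, ?_, ?_, ?_, ?_⟩
  · have h12 : Algebra.Etale (Polynomial F) D := inferInstance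
    have h13 : (algebraMap (Polynomial F) D).Etale := RingHom.etale_algebraMap.2 h12
    exact h13
  · exact Algebra.TensorProduct.includeRight_injective hinj
  · ext r
    have h11 : algebraMap K B r = algebraMap R₀ B (MvPolynomial.C r) := by
      rw [hgR]
      exact (g.commutes r).symm
    rw [RingHom.comp_apply, RingHom.comp_apply, h11, hFD, hκ, ← line_C, ← hlR]
    change (1 : Polynomial F) ⊗ₜ[R₀] algebraMap R₀ B (MvPolynomial.C r) = _
    rw [Algebra.algebraMap_eq_smul_one, TensorProduct.tmul_smul, TensorProduct.smul_tmul',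
      ← Algebra.algebraMap_eq_smul_one]
  · ext b
    change ((δ₀ ((1 : Polynomial F) ⊗ₜ[R₀] b) : F) : Λ) = ((κ a (ε b) : F) : Λ)
    rw [hδ₀, map_one, one_mul]
    rfl

end K798.LineRing
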